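import Mathlib
import Cfsg.Agent.ClassicalGeometry.PSUAutBasic
import Cfsg.Agent.J2Type.SylowSeven
import Cfsg.Agent.S0280
set_option linter.all false

/-!
# The subgroups of order seven of `U₄(3)` (helper844)
-/

set_option autoImplicit false
set_option linter.unusedSectionVars false

namespace Cfsg.Agent.H844.USeven

open Cfsg Module Submodule
open Cfsg.Agent.LieClassical.HermBasic Cfsg.Agent.LieClassical.HermSiegel
open Cfsg.Agent.ClassicalGeometry.PSUAutBasic

section Lin

variable {F : Type*} [Field F] [Fintype F] {V : Type*} [AddCommGroup V] [Module F V] [Finite V]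

/-- counting fixed vectors of an operator of prime order -/
theorem count_fixed (hF : Fintype.card F = 9) (T : End F V) {p : ℕ} [Fact p.Prime] (hT : T ^ p = 1)
    (W : Submodule F V) (hW : ∀ w ∈ W, T w ∈ W) :
    9 ^ finrank F W ≡ 9 ^ finrank F (W ⊓ LinearMap.ker (T - 1) : Submodule F V) [MOD p] := by
  classical
  have : Fintype V := Fintype.ofFinite V
  have : Fintype W := Fintype.ofFinite W
  let f : Function.End W := fun w => ⟨T w, hW w w.2⟩
  have hpow : ∀ (n : ℕ) (w : W), (((f ^ n : Function.End W) w : W) : V) = (T ^ n) w := by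
    intro n
    induction n with
    | zero => intro w; rfl
    | succ n ih =>
      intro w
      rw [pow_succ', pow_succ']
      show T ((f ^ n : Function.End W) w : V) = T ((T ^ n) w)
      rw [ih]
  have hf : f ^ p ^ 1 = 1 := by
    rw [pow_one]
    funext w
    apply Subtype.ext
    rw [hpow, hT]
    rfl
  have h1 := Equiv.Perm.card_fixedPoints_modEq (p := p) (n := 1) hf
  have h2 : Fintype.card W = 9 ^ finrank F W := by
    rw [card_eq_pow_finrank (K := F), hF]
  have h3 : Fintype.card (Function.fixedPoints f) = 9 ^ finrank F (W ⊓ LinearMap.ker (T - 1) : Submodule F V) := by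
    have : Fintype (W ⊓ LinearMap.ker (T - 1) : Submodule F V) := Fintype.ofFinite _
    rw [← hF, ← card_eq_pow_finrank (K := F)]
    apply Fintype.card_congr
    have hk : ∀ v : V, v ∈ LinearMap.ker (T - 1) ↔ T v = v := by
      intro v
      rw [LinearMap.mem_ker, LinearMap.sub_apply, sub_eq_zero]
      exact Iff.rfl
    refine ⟨fun w => ⟨(w : W), (w : W).2, (hk _).2 ?_⟩, fun v => ⟨⟨v, v.2.1⟩, ?_⟩, fun _ => rfl, fun _ => rfl⟩
    · exact congrArg Subtype.val w.2
    · apply Subtype.ext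
      exact (hk v).1 v.2.2
  rw [h2, h3] at h1
  exact h1

variable {x : End F V} (hF : Fintype.card F = 9) (hd : finrank F V = 4) (hx : x ^ 7 = 1) (hx1 : x ≠ 1)

include hF hd hx hx1

theorem dim_fixed : finrank F (LinearMap.ker (x - 1)) = 1 := by
  have : Fact (Nat.Prime 7) := ⟨by norm_num⟩
  have h1 := count_fixed hF x hx ⊤ (fun _ _ => trivial)
  rw [top_inf_eq, finrank_top, hd] at h1
  have h2 : finrank F (LinearMap.ker (x - 1)) ≤ 4 := by
    rw [← hd]; exact Submodule.finrank_le _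
  have h3 : finrank F (LinearMap.ker (x - 1)) ≠ 4 := by
    intro h
    rw [← hd] at h
    have h4 := Submodule.eq_top_of_finrank_eq h
    rw [LinearMap.ker_eq_top, sub_eq_zero] at h4
    exact hx1 h4
  generalize finrank F (LinearMap.ker (x - 1)) = d at *
  interval_cases d <;> first | rfl | (exfalso; revert h1; decide) | exact absurd rfl h3

/-- dimensions of invariant subspaces -/
theorem dim_inv (W : Submodule F V) (hW : ∀ w ∈ W, x w ∈ W) :
    (finrank F W = 0) ∨ (finrank F W = 1 ∧ W = LinearMap.ker (x - 1)) ∨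
    (finrank F W = 3 ∧ W ⊓ LinearMap.ker (x - 1) = ⊥) ∨ (finrank F W = 4 ∧ W = ⊤) := by
  have : Fact (Nat.Prime 7) := ⟨by norm_num⟩
  have h0 := dim_fixed hF hd hx hx1
  have h1 := count_fixed hF x hx W hW
  have h2 : finrank F W ≤ 4 := by
    rw [← hd]; exact Submodule.finrank_le _
  have h3 : finrank F (W ⊓ LinearMap.ker (x - 1) : Submodule F V) ≤ 1 := by
    rw [← h0]
    exact Submodule.finrank_mono inf_le_right
  have h4 : finrank F W = 4 → W = ⊤ := by
    intro h
    exact Submodule.eq_top_of_finrank_eq (by rw [h, hd])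
  have h5 : finrank F (W ⊓ LinearMap.ker (x - 1) : Submodule F V) = 0 → W ⊓ LinearMap.ker (x - 1) = ⊥ :=
    fun h => Submodule.finrank_eq_zero.1 h
  have h6 : finrank F W = 1 → finrank F (W ⊓ LinearMap.ker (x - 1) : Submodule F V) = 1 → W = LinearMap.ker (x - 1) := by
    intro h h'
    have e1 := Submodule.eq_of_le_of_finrank_eq (inf_le_left : W ⊓ LinearMap.ker (x - 1) ≤ W) (by rw [h, h'])
    have e2 := Submodule.eq_of_le_of_finrank_eq (inf_le_right : W ⊓ LinearMap.ker (x - 1) ≤ LinearMap.ker (x - 1))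
      (by rw [h', h0])
    rw [← e1, e2]
  generalize finrank F W = a at *
  generalize finrank F (W ⊓ LinearMap.ker (x - 1) : Submodule F V) = b at *
  interval_cases a <;> interval_cases b <;> first
    | (exfalso; revert h1; decide)
    | exact Or.inl rfl
    | exact Or.inr (Or.inl ⟨rfl, h6 rfl rfl⟩)
    | exact Or.inr (Or.inr (Or.inl ⟨rfl, h5 rfl⟩))
    | exact Or.inr (Or.inr (Or.inr ⟨rfl, h4 rfl⟩))

/-- commuting elements of order five are trivial -/
theorem five {y : End F V} (hxy : x * y = y * x) (hy : y ^ 5 = 1) : y = 1 := by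
  have : Fact (Nat.Prime 5) := ⟨by norm_num⟩
  have h0 := dim_fixed hF hd hx hx1
  have hE : ∀ w ∈ LinearMap.ker (y - 1), x w ∈ LinearMap.ker (y - 1) := by
    intro w hw
    rw [LinearMap.mem_ker, LinearMap.sub_apply, sub_eq_zero] at hw ⊢
    show (y * x) w = x w
    rw [← hxy]
    show x (y w) = x w
    rw [hw]; rfl
  have hU : ∀ w ∈ LinearMap.ker (x - 1), y w ∈ LinearMap.ker (x - 1) := by
    intro w hw
    rw [LinearMap.mem_ker, LinearMap.sub_apply, sub_eq_zero] at hw ⊢
    show (x * y) w = y w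
    rw [hxy]
    show y (x w) = y w
    rw [hw]; rfl
  have h1 := count_fixed hF y hy ⊤ (fun _ _ => trivial)
  rw [top_inf_eq, finrank_top, hd] at h1
  have h2 := count_fixed hF y hy _ hU
  rw [h0] at h2
  have h3 : finrank F (LinearMap.ker (x - 1) ⊓ LinearMap.ker (y - 1) : Submodule F V) ≤ 1 := by
    rw [← h0]
    exact Submodule.finrank_mono inf_le_left
  have h4 : finrank F (LinearMap.ker (x - 1) ⊓ LinearMap.ker (y - 1) : Submodule F V) ≤
      finrank F (LinearMap.ker (y - 1)) := Submodule.finrank_mono inf_le_right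
  rcases dim_inv hF hd hx hx1 _ hE with h | ⟨h, -⟩ | ⟨h, -⟩ | ⟨-, h⟩
  · rw [h] at h4
    have h5 : finrank F (LinearMap.ker (x - 1) ⊓ LinearMap.ker (y - 1) : Submodule F V) = 0 := by omega
    rw [h5] at h2
    exact absurd h2 (by decide)
  · rw [h] at h1
    exact absurd h1 (by decide)
  · rw [h] at h1
    exact absurd h1 (by decide)
  · rw [LinearMap.ker_eq_top, sub_eq_zero] at h
    exact h

/-- commuting unipotent elements are trivial -/
theorem three {y : End F V} (hxy : x * y = y * x) (hy : (y - 1) ^ 3 = 0) : y = 1 := by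
  have h0 := dim_fixed hF hd hx hx1
  have hcomm : ∀ w, x ((y - 1) w) = (y - 1) (x w) := by
    intro w
    rw [LinearMap.sub_apply, LinearMap.sub_apply, map_sub]
    congr 1
    exact LinearMap.congr_fun hxy w
  have hE : ∀ w ∈ LinearMap.ker (y - 1), x w ∈ LinearMap.ker (y - 1) := by
    intro w hw
    rw [LinearMap.mem_ker] at hw ⊢
    rw [← hcomm, hw, map_zero]
  have hR : ∀ w ∈ LinearMap.range (y - 1), x w ∈ LinearMap.range (y - 1) := by
    rintro _ ⟨v, rfl⟩
    exact ⟨x v, (hcomm v).symm⟩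
  have hcube : ∀ v, (y - 1) ((y - 1) ((y - 1) v)) = 0 := by
    intro v
    have := LinearMap.congr_fun hy v
    rw [pow_succ', pow_succ', pow_one] at this
    exact this
  have hrn := LinearMap.finrank_range_add_finrank_ker (y - 1)
  rw [hd] at hrn
  have hV : ∃ v : V, v ≠ 0 := by
    by_contra h
    push Not at h
    apply hx1
    ext v
    rw [h v, map_zero, map_zero]
  -- a vector of the kernel
  have hpos : finrank F (LinearMap.ker (y - 1)) ≠ 0 := by
    intro h
    have h1 : LinearMap.ker (y - 1) = ⊥ := Submodule.finrank_eq_zero.1 h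
    obtain ⟨v, hv⟩ := hV
    have h2 : Function.Injective ⇑(y - 1) := LinearMap.ker_eq_bot.1 h1
    apply hv
    apply h2
    apply h2
    apply h2
    rw [hcube, map_zero, map_zero, map_zero]
  rcases dim_inv hF hd hx hx1 _ hE with h | ⟨h, h'⟩ | ⟨h, h'⟩ | ⟨-, h⟩
  · exact absurd h hpos
  · -- the range has dimension three
    rw [h] at hrn
    rcases dim_inv hF hd hx hx1 _ hR with k | ⟨k, -⟩ | ⟨k, k'⟩ | ⟨k, -⟩
    · omega
    · omega
    · exfalso
      rw [← h'] at k'
      have hinj : ∀ v, (y - 1) v ≠ 0 → (y - 1) ((y - 1) v) ≠ 0 := by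
        intro v hv hv'
        apply hv
        have : (y - 1) v ∈ LinearMap.range (y - 1) ⊓ LinearMap.ker (y - 1) := ⟨⟨v, rfl⟩, hv'⟩
        rwa [k', Submodule.mem_bot] at this
      have hr : LinearMap.range (y - 1) ≠ ⊥ := by
        intro hr
        rw [hr, finrank_bot] at k
        omega
      obtain ⟨_, ⟨v, rfl⟩, hv⟩ := Submodule.exists_mem_ne_zero_of_ne_bot hr
      exact hinj _ (hinj _ hv) (hcube v)
    · omega
  · -- the range is the fixed space
    exfalso
    rw [h] at hrn
    rcases dim_inv hF hd hx hx1 _ hR with k | ⟨k, k'⟩ | ⟨k, -⟩ | ⟨k, -⟩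
    · omega
    · have hr : LinearMap.range (y - 1) ≠ ⊥ := by
        intro hr
        rw [hr, finrank_bot] at k
        omega
      have hinj : ∀ v, (y - 1) v ≠ 0 → (y - 1) ((y - 1) v) ≠ 0 := by
        intro v hv hv'
        apply hv
        have h1 : (y - 1) v ∈ LinearMap.ker (y - 1) ⊓ LinearMap.ker (x - 1) := ⟨hv', by rw [← k']; exact ⟨v, rfl⟩⟩
        rwa [h', Submodule.mem_bot] at h1
      obtain ⟨_, ⟨v, rfl⟩, hv⟩ := Submodule.exists_mem_ne_zero_of_ne_bot hr
      exact hinj _ (hinj _ hv) (hcube v)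
    · omega
    · omega
  · rw [LinearMap.ker_eq_top, sub_eq_zero] at h
    exact h

omit hF hd hx hx1 [Finite V] [Fintype F] in
/-- the determinant of an operator with two eigenvalues -/
theorem det_two {y : End F V} [FiniteDimensional F V] {μ ν : F} (h : ∀ v, (y - μ • 1) ((y - ν • 1) v) = 0) :
    LinearMap.det y = μ ^ finrank F (LinearMap.ker (y - μ • 1)) *
      ν ^ finrank F (V ⧸ LinearMap.ker (y - μ • 1)) := by
  set W := LinearMap.ker (y - μ • 1) with hW
  have hyW : ∀ w ∈ W, y w = μ • w := by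
    intro w hw
    rw [hW, LinearMap.mem_ker, LinearMap.sub_apply, sub_eq_zero] at hw
    exact hw
  have hle : W ≤ W.comap y := by
    intro w hw
    rw [Submodule.mem_comap, hyW w hw]
    exact W.smul_mem _ hw
  rw [LinearMap.det_eq_det_mul_det W y hle]
  congr 1
  · have e : LinearMap.restrict y (show ∀ w ∈ W, y w ∈ W from hle) = μ • LinearMap.id := by
      ext w
      exact hyW w w.2
    refine Eq.trans (congrArg LinearMap.det e) ?_
    rw [LinearMap.det_smul, LinearMap.det_id, mul_one]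
  · have e : W.mapQ W y hle = ν • LinearMap.id := by
      apply LinearMap.ext
      intro w
      obtain ⟨v, rfl⟩ := Submodule.mkQ_surjective W w
      show W.mkQ (y v) = ν • W.mkQ v
      rw [← map_smul, ← sub_eq_zero, ← map_sub]
      rw [Submodule.mkQ_apply, Submodule.Quotient.mk_eq_zero]
      exact h v
    rw [e, LinearMap.det_smul, LinearMap.det_id, mul_one]

/-- commuting operators with scalar square -/
theorem two {y : End F V} (hxy : x * y = y * x) {μ : F} (hμ : μ ≠ 0) (h2 : (2 : F) ≠ 0)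
    (hy : ∀ v, y (y v) = (μ * μ) • v) (hdet : LinearMap.det y = 1)
    (hU : ∀ u : V, x u = u → u ≠ 0 → ∀ ν : F, y u = ν • u → ν ^ 4 = 1) : ∃ d : F, ∀ v, y v = d • v := by
  have hfd : FiniteDimensional F V := FiniteDimensional.of_finrank_pos (by omega)
  have hE : ∀ ν : F, ∀ w ∈ LinearMap.ker (y - ν • 1), x w ∈ LinearMap.ker (y - ν • 1) := by
    intro ν w hw
    rw [LinearMap.mem_ker, LinearMap.sub_apply, sub_eq_zero] at hw ⊢
    show (y * x) w = ν • x w
    rw [← hxy]
    show x (y w) = _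
    rw [hw, ← map_smul]; rfl
  have hpm : ∀ ν : F, ν * ν = μ * μ → ∀ v, (y - ν • 1) ((y - (-ν) • 1) v) = 0 := by
    intro ν hν v
    show y (y v - (-ν) • v) - ν • (y v - (-ν) • v) = 0
    rw [map_sub, map_smul, hy, ← hν]
    module
  have hint : LinearMap.ker (y - μ • 1) ⊓ LinearMap.ker (y - (-μ) • 1) = ⊥ := by
    rw [eq_bot_iff]
    rintro v ⟨h3, h4⟩
    have h3' : y v = μ • v := by
      have : (y - μ • 1) v = 0 := h3
      rw [LinearMap.sub_apply, sub_eq_zero] at this
      exact this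
    have h4' : y v = (-μ) • v := by
      have : (y - (-μ) • 1) v = 0 := h4
      rw [LinearMap.sub_apply, sub_eq_zero] at this
      exact this
    have h5 : (2 * μ) • v = 0 := by
      rw [two_mul, add_smul, ← h3']
      nth_rewrite 1 [h4']
      rw [neg_smul, ← h3', neg_add_cancel]
    rw [Submodule.mem_bot]
    exact (smul_eq_zero.1 h5).resolve_left (mul_ne_zero h2 hμ)
  have hsup : LinearMap.ker (y - μ • 1) ⊔ LinearMap.ker (y - (-μ) • 1) = ⊤ := by
    rw [eq_top_iff]
    intro v _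
    have e : v = (2 * μ)⁻¹ • ((y - (-μ) • 1) v) + (-(2 * μ)⁻¹) • ((y - μ • 1) v) := by
      have h6 : (2 * μ)⁻¹ * (2 * μ) = 1 := inv_mul_cancel₀ (mul_ne_zero h2 hμ)
      show v = (2 * μ)⁻¹ • (y v - (-μ) • v) + (-(2 * μ)⁻¹) • (y v - μ • v)
      have h7 : (2 * μ)⁻¹ • (y v - (-μ) • v) + (-(2 * μ)⁻¹) • (y v - μ • v) = ((2 * μ)⁻¹ * (2 * μ)) • v := by module
      rw [h7, h6, one_smul]
    rw [e]
    apply Submodule.add_mem_sup
    · apply Submodule.smul_mem
      exact hpm μ rfl v
    · apply Submodule.smul_mem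
      have := hpm (-μ) (by ring) v
      rw [neg_neg] at this
      exact this
  have hsum := Submodule.finrank_sup_add_finrank_inf_eq (LinearMap.ker (y - μ • 1)) (LinearMap.ker (y - (-μ) • 1))
  rw [hsup, hint, finrank_top, finrank_bot, hd] at hsum
  have key : ∀ ν : F, ν * ν = μ * μ → ν ≠ 0 → finrank F (LinearMap.ker (y - ν • 1)) = 3 →
      LinearMap.ker (y - (-ν) • 1) = LinearMap.ker (x - 1) → False := by
    intro ν hν hν0 h3 h4
    have h5 := det_two (hpm ν hν)
    have h6 := Submodule.finrank_quotient_add_finrank (LinearMap.ker (y - ν • 1))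
    rw [hd, h3] at h6
    have h7 : finrank F (V ⧸ LinearMap.ker (y - ν • 1)) = 1 := by omega
    rw [h3, h7, hdet, pow_one] at h5
    have h8 : finrank F (LinearMap.ker (x - 1)) = 1 := dim_fixed hF hd hx hx1
    have h9 : LinearMap.ker (x - 1) ≠ ⊥ := by
      intro h
      rw [h, finrank_bot] at h8
      omega
    obtain ⟨u, hu, hu0⟩ := Submodule.exists_mem_ne_zero_of_ne_bot h9
    have hu1 : x u = u := by
      rw [LinearMap.mem_ker, LinearMap.sub_apply, sub_eq_zero] at hu
      exact hu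
    have hu2 : y u = (-ν) • u := by
      rw [← h4, LinearMap.mem_ker, LinearMap.sub_apply, sub_eq_zero] at hu
      exact hu
    have h10 := hU u hu1 hu0 _ hu2
    have h11 : ν ^ 4 = 1 := by rw [← h10]; ring
    have h12 : (1 : F) = -1 := by
      calc (1 : F) = ν ^ 3 * -ν := h5
        _ = - ν ^ 4 := by ring
        _ = -1 := by rw [h11]
    apply h2
    calc (2 : F) = 1 + 1 := by norm_num
      _ = -1 + 1 := by nth_rewrite 1 [h12]; rfl
      _ = 0 := neg_add_cancel 1
  rcases dim_inv hF hd hx hx1 _ (hE μ) with a | ⟨a, a'⟩ | ⟨a, -⟩ | ⟨-, a⟩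
  · rcases dim_inv hF hd hx hx1 _ (hE (-μ)) with b | ⟨b, -⟩ | ⟨b, -⟩ | ⟨-, b⟩
    · omega
    · omega
    · omega
    · refine ⟨-μ, fun v => ?_⟩
      have : v ∈ LinearMap.ker (y - (-μ) • 1) := by rw [b]; trivial
      rw [LinearMap.mem_ker, LinearMap.sub_apply, sub_eq_zero] at this
      exact this
  · exfalso
    have b : finrank F (LinearMap.ker (y - (-μ) • 1)) = 3 := by omega
    exact key (-μ) (by ring) (neg_ne_zero.2 hμ) b (by rw [neg_neg]; exact a')
  · exfalso
    rcases dim_inv hF hd hx hx1 _ (hE (-μ)) with b | ⟨b, b'⟩ | ⟨b, -⟩ | ⟨b, -⟩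
    · omega
    · exact key μ rfl hμ a b'
    · omega
    · omega
  · refine ⟨μ, fun v => ?_⟩
    have : v ∈ LinearMap.ker (y - μ • 1) := by rw [a]; trivial
    rw [LinearMap.mem_ker, LinearMap.sub_apply, sub_eq_zero] at this
    exact this

end Lin

/-! ### The group -/

section Grp

variable {F : Type*} [Field F] [Fintype F]

/-- the linear map -/
def lin (g : SU 4 F 3) : End F (Fin 4 → F) := Matrix.mulVecLin (mat g)

theorem lin_apply (g : SU 4 F 3) (v : Fin 4 → F) : lin g v = act g v := rfl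

theorem lin_mul (g h : SU 4 F 3) : lin (g * h) = lin g * lin h := by
  apply LinearMap.ext
  intro v
  exact act_mul g h v

theorem lin_one : lin (1 : SU 4 F 3) = 1 := by
  apply LinearMap.ext
  intro v
  exact act_one v

theorem lin_pow (g : SU 4 F 3) (n : ℕ) : lin (g ^ n) = lin g ^ n := by
  induction n with
  | zero => rw [pow_zero, pow_zero, lin_one]
  | succ n ih => rw [pow_succ, pow_succ, lin_mul, ih]

theorem lin_inj {g h : SU 4 F 3} (H : lin g = lin h) : g = h :=
  ext_act fun v => LinearMap.congr_fun H v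

theorem det_lin (g : SU 4 F 3) : LinearMap.det (lin g) = 1 := by
  rw [lin, ← Matrix.toLin'_apply', LinearMap.det_toLin', det_mat]

variable (hF : Fintype.card F = 9)

include hF

theorem hF' : Fintype.card F = 3 ^ 2 := by rw [hF]; norm_num

theorem charP_three : CharP F 3 := by
  obtain ⟨p, hp⟩ := CharP.exists F
  have hpp : p.Prime := CharP.char_is_prime F p
  have h1 : p ∣ Fintype.card F := (CharP.cast_eq_zero_iff F p _).1 (by rw [FiniteField.cast_card_eq_zero])
  rw [hF, show 9 = 3 ^ 2 by norm_num] at h1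
  have h2 := (Nat.prime_dvd_prime_iff_eq hpp Nat.prime_three).1 (hpp.dvd_of_dvd_pow h1)
  rw [← h2]
  exact hp

theorem two_ne : (2 : F) ≠ 0 := by
  have := charP_three hF
  intro h
  have h1 : ((2 : ℕ) : F) = 0 := by exact_mod_cast h
  rw [CharP.cast_eq_zero_iff F 3] at h1
  omega

theorem center_pow {z : SU 4 F 3} (hz : z ∈ Subgroup.center (SU 4 F 3)) :
    z ^ 4 = 1 ∧ ∃ c : F, c ^ 4 = 1 ∧ ∀ v, act z v = c • v := by
  obtain ⟨c, hc, hc', rfl⟩ := (LieClassical.SUBasic.mem_center_SU_iff (hF' hF) (by norm_num) z).1 hz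
  have h1 : ∀ v, act (LieClassical.SUBasic.suScalar 3 c hc hc') v = c • v := act_suScalar hc hc'
  refine ⟨?_, c, hc, h1⟩
  apply lin_inj
  rw [lin_pow, lin_one]
  apply LinearMap.ext
  intro v
  have h2 : ∀ v, lin (LieClassical.SUBasic.suScalar 3 c hc hc') v = c • v := h1
  show lin _ (lin _ (lin _ (lin _ v))) = v
  rw [h2, h2, h2, h2, smul_smul, smul_smul, smul_smul]
  have : c * c * c * c = 1 := by rw [← hc]; ring
  rw [this, one_smul]

theorem fix_unit {a b : SU 4 F 3} (ha : a ^ 7 = 1) (ha1 : a ≠ 1) {u : Fin 4 → F} (hu : lin a u = u) (hu0 : u ≠ 0)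
    {ν : F} (hb : lin b u = ν • u) : ν ^ 4 = 1 := by
  have hx : lin a ^ 7 = 1 := by rw [← lin_pow, ha, lin_one]
  have hx1 : lin a ≠ 1 := fun h => ha1 (lin_inj (h.trans lin_one.symm))
  have hd : finrank F (Fin 4 → F) = 4 := by simp
  have hR : ∀ w ∈ LinearMap.range (lin a - 1), lin a w ∈ LinearMap.range (lin a - 1) := by
    rintro _ ⟨v, rfl⟩
    refine ⟨lin a v, ?_⟩
    show lin a (lin a v) - lin a v = lin a (lin a v - v)
    rw [map_sub]
  have h1 := dim_fixed hF hd hx hx1
  have hrn := LinearMap.finrank_range_add_finrank_ker (lin a - 1)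
  rw [hd, h1] at hrn
  have hnd : hermForm 4 F 3 u u ≠ 0 := by
    intro h0
    apply hu0
    rcases dim_inv hF hd hx hx1 _ hR with k | ⟨k, -⟩ | ⟨k, k'⟩ | ⟨k, -⟩
    · omega
    · omega
    · have hsup := Submodule.finrank_sup_add_finrank_inf_eq (LinearMap.range (lin a - 1)) (LinearMap.ker (lin a - 1))
      rw [k', finrank_bot, k, h1] at hsup
      have htop : LinearMap.range (lin a - 1) ⊔ LinearMap.ker (lin a - 1) = ⊤ :=
        Submodule.eq_top_of_finrank_eq (by rw [hd]; omega)
      -- the fixed space is spanned by `u`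
      have huk : u ∈ LinearMap.ker (lin a - 1) := by
        rw [LinearMap.mem_ker, LinearMap.sub_apply, sub_eq_zero]
        exact hu
      have hspan : ∀ w ∈ LinearMap.ker (lin a - 1), ∃ c : F, c • u = w := by
        intro w hw
        obtain ⟨c, hc⟩ := (finrank_eq_one_iff_of_nonzero' (⟨u, huk⟩ : LinearMap.ker (lin a - 1))
          (fun h => hu0 (congrArg Subtype.val h))).1 h1 ⟨w, hw⟩
        exact ⟨c, congrArg Subtype.val hc⟩
      apply herm_nondeg (hF' hF)
      intro v
      apply herm_eq_zero_swap (hF' hF)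
      have hv : v ∈ LinearMap.range (lin a - 1) ⊔ LinearMap.ker (lin a - 1) := by rw [htop]; trivial
      obtain ⟨_, ⟨r, rfl⟩, w, hw, rfl⟩ := Submodule.mem_sup.1 hv
      obtain ⟨c, rfl⟩ := hspan w hw
      rw [herm_add_left, herm_smul_left, h0, mul_zero, add_zero]
      show hermForm 4 F 3 (act a r - r) u = 0
      rw [herm_sub_left]
      have e1 : hermForm 4 F 3 (act a r) u = hermForm 4 F 3 r u := by
        conv_lhs => rw [← hu]
        exact herm_act a r u
      rw [e1, sub_self]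
    · omega
  have h2 := herm_act b u u
  rw [← lin_apply, hb, herm_smul_left, herm_smul_right] at h2
  apply mul_right_cancel₀ hnd
  rw [one_mul]
  nth_rewrite 2 [← h2]
  ring

/-- the lift of an element of order seven -/
theorem lift_seven {x : PSU 4 F 3} (hx : x ^ 7 = 1) : ∃ a : SU 4 F 3, a ^ 7 = 1 ∧ pr 4 F 3 a = x := by
  obtain ⟨a, rfl⟩ := pr_surjective x
  have h1 : a ^ 7 ∈ Subgroup.center (SU 4 F 3) := by
    rw [← pr_eq_one_iff, map_pow, hx]
  refine ⟨a ^ 8, ?_, ?_⟩
  · rw [← pow_mul, show 8 * 7 = 7 * 4 * 2 by norm_num, pow_mul, pow_mul, (center_pow hF h1).1, one_pow]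
  · rw [map_pow, pow_succ, hx, one_mul]

/-- commuting modulo the centre with an element of order seven -/
theorem comm_of_pr {a b : SU 4 F 3} (ha : a ^ 7 = 1) (h : pr 4 F 3 b * pr 4 F 3 a = pr 4 F 3 a * pr 4 F 3 b) :
    b * a = a * b := by
  have h1 : b * a * b⁻¹ * a⁻¹ ∈ Subgroup.center (SU 4 F 3) := by
    rw [← pr_eq_one_iff, map_mul, map_mul, map_mul, map_inv, map_inv, h]
    group
  set z := b * a * b⁻¹ * a⁻¹ with hz
  have h2 : b * a * b⁻¹ = z * a := by rw [hz]; group
  have h3 : (z * a) ^ 7 = 1 := by rw [← h2, conj_pow, ha, mul_one, mul_inv_cancel]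
  have h4 : Commute z a := (Subgroup.mem_center_iff.1 h1 a).symm
  rw [h4.mul_pow, ha, mul_one] at h3
  have h5 := (center_pow hF h1).1
  have h6 : z = 1 := by
    have : z = (z ^ 4) ^ 2 * (z ^ 7)⁻¹ := by group
    rw [this, h5, h3]; group
  rw [h6, one_mul] at h2
  exact mul_inv_eq_iff_eq_mul.1 h2

theorem eq_one_of_lin_smul {b : SU 4 F 3} {d : F} (h : ∀ v, lin b v = d • v) : pr 4 F 3 b = 1 :=
  pr_eq_one_iff.2 (mem_center_of_act h)

theorem no_two {x y : PSU 4 F 3} (hx : x ^ 7 = 1) (hx1 : x ≠ 1) (hxy : y * x = x * y) (hy : y ^ 2 = 1) : y = 1 := by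
  obtain ⟨a, ha, rfl⟩ := lift_seven hF hx
  obtain ⟨b, rfl⟩ := pr_surjective y
  have hab := comm_of_pr hF ha hxy
  have hz : b ^ 2 ∈ Subgroup.center (SU 4 F 3) := by rw [← pr_eq_one_iff, map_pow, hy]
  obtain ⟨-, c, hc, hcv⟩ := center_pow hF hz
  have ha1 : a ≠ 1 := by rintro rfl; exact hx1 (map_one _)
  have hx : lin a ^ 7 = 1 := by rw [← lin_pow, ha, lin_one]
  have hx1 : lin a ≠ 1 := fun h => ha1 (lin_inj (h.trans lin_one.symm))
  have hc0 : c ≠ 0 := by
    rintro rfl
    rw [zero_pow (by norm_num)] at hc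
    exact zero_ne_one hc
  have := charP_three hF
  have hsq : IsSquare c := by
    rw [FiniteField.isSquare_iff (by
      rw [ringChar.eq F 3]; norm_num) hc0, hF]
    exact hc
  obtain ⟨μ, hμ⟩ := hsq
  have hμ0 : μ ≠ 0 := by
    rintro rfl
    rw [mul_zero] at hμ
    exact hc0 hμ
  obtain ⟨d, hd⟩ := two (F := F) hF (by simp) hx hx1 (y := lin b) (by rw [← lin_mul, ← lin_mul, hab]) hμ0 (two_ne hF)
    (fun v => by
      rw [← hμ, ← hcv, pow_two, act_mul]; rfl) (det_lin b)
    (fun u hu hu0 ν hν => fix_unit hF ha ha1 hu hu0 hν)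
  exact eq_one_of_lin_smul hF hd

theorem no_three {x y : PSU 4 F 3} (hx : x ^ 7 = 1) (hx1 : x ≠ 1) (hxy : y * x = x * y) (hy : y ^ 3 = 1) : y = 1 := by
  obtain ⟨a, ha, rfl⟩ := lift_seven hF hx
  obtain ⟨b, rfl⟩ := pr_surjective y
  have hab := comm_of_pr hF ha hxy
  have hz : b ^ 3 ∈ Subgroup.center (SU 4 F 3) := by rw [← pr_eq_one_iff, map_pow, hy]
  have ha1 : a ≠ 1 := by rintro rfl; exact hx1 (map_one _)
  have hx : lin a ^ 7 = 1 := by rw [← lin_pow, ha, lin_one]
  have hx1 : lin a ≠ 1 := fun h => ha1 (lin_inj (h.trans lin_one.symm))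
  have := charP_three hF
  have h3 : (3 : F) = 0 := by exact_mod_cast CharP.cast_eq_zero F 3
  have hb3 : lin (b ^ 4) ^ 3 = 1 := by
    rw [← lin_pow, ← pow_mul, show 4 * 3 = 3 * 4 by norm_num, pow_mul, (center_pow hF hz).1, lin_one]
  have hcomm : lin a * lin (b ^ 4) = lin (b ^ 4) * lin a := by
    rw [← lin_mul, ← lin_mul]
    congr 1
    exact ((show Commute b a from hab).pow_left 4).eq.symm
  have h1 := three (F := F) hF (by simp) hx hx1 hcomm (by
    have e : ∀ t : End F (Fin 4 → F), (t - 1) ^ 3 = t ^ 3 - 1 - (3 : F) • (t ^ 2 - t) := by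
      intro t
      rw [show (3 : F) = 1 + 1 + 1 by norm_num, add_smul, add_smul, one_smul]
      simp only [pow_succ, pow_zero, one_mul, sub_mul, mul_sub, mul_one]
      abel
    rw [e, hb3, h3, zero_smul, sub_self, sub_zero])
  have h2 : b ^ 4 = 1 := lin_inj (h1.trans lin_one.symm)
  have h4 : pr 4 F 3 b = pr 4 F 3 (b ^ 4) := by rw [map_pow, pow_succ, hy, one_mul]
  rw [h4, h2, map_one]

theorem no_five {x y : PSU 4 F 3} (hx : x ^ 7 = 1) (hx1 : x ≠ 1) (hxy : y * x = x * y) (hy : y ^ 5 = 1) : y = 1 := by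
  obtain ⟨a, ha, rfl⟩ := lift_seven hF hx
  obtain ⟨b, rfl⟩ := pr_surjective y
  have hab := comm_of_pr hF ha hxy
  have hz : b ^ 5 ∈ Subgroup.center (SU 4 F 3) := by rw [← pr_eq_one_iff, map_pow, hy]
  have ha1 : a ≠ 1 := by rintro rfl; exact hx1 (map_one _)
  have hx : lin a ^ 7 = 1 := by rw [← lin_pow, ha, lin_one]
  have hx1 : lin a ≠ 1 := fun h => ha1 (lin_inj (h.trans lin_one.symm))
  have hb5 : lin (b ^ 16) ^ 5 = 1 := by
    rw [← lin_pow, ← pow_mul, show 16 * 5 = 5 * 4 * 4 by norm_num, pow_mul, pow_mul, (center_pow hF hz).1, one_pow,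
      lin_one]
  have hcomm : lin a * lin (b ^ 16) = lin (b ^ 16) * lin a := by
    rw [← lin_mul, ← lin_mul]
    congr 1
    exact ((show Commute b a from hab).pow_left 16).eq.symm
  have h1 := five (F := F) hF (by simp) hx hx1 hcomm hb5
  have h2 : b ^ 16 = 1 := lin_inj (h1.trans lin_one.symm)
  have h4 : pr 4 F 3 b = pr 4 F 3 (b ^ 16) := by
    rw [map_pow, show 16 = 5 * 3 + 1 by norm_num, pow_succ, pow_mul, hy, one_pow, one_mul]
  rw [h4, h2, map_one]

theorem card_psu : Nat.card (PSU 4 F 3) = 3265920 := by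
  have h := S0280.result (hF' hF) 4 (by norm_num)
  simp only [Finset.prod_range_succ, Finset.prod_range_zero] at h
  norm_num at h
  omega

/-- **The centralizer.** -/
theorem centralizer_eq (X : Subgroup (PSU 4 F 3)) (hX : Nat.card X = 7) :
    Subgroup.centralizer (X : Set (PSU 4 F 3)) = X := by
  have : Fact (Nat.Prime 7) := ⟨by norm_num⟩
  have hcyc : IsCyclic X := isCyclic_of_prime_card hX
  obtain ⟨x, hx⟩ := hcyc.exists_generator
  have hXle : X ≤ Subgroup.centralizer (X : Set (PSU 4 F 3)) := by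
    intro y hy
    rw [Subgroup.mem_centralizer_iff]
    intro z hz
    have h1 := (IsCyclic.commGroup (α := X)).mul_comm ⟨z, hz⟩ ⟨y, hy⟩
    exact congrArg Subtype.val h1
  have hx7 : (x : PSU 4 F 3) ^ 7 = 1 := by
    rw [← Subgroup.coe_pow, ← hX, pow_card_eq_one', Subgroup.coe_one]
  have hx1 : (x : PSU 4 F 3) ≠ 1 := by
    intro h
    have h1 : x = 1 := Subtype.ext h
    subst h1
    have h2 : Nat.card X = 1 := by
      rw [Nat.card_eq_one_iff_unique]
      refine ⟨⟨fun a b => ?_⟩, ⟨1⟩⟩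
      obtain ⟨k, rfl⟩ := hx a
      obtain ⟨l, rfl⟩ := hx b
      simp
    omega
  have hno : ∀ r : ℕ, r.Prime → r ∣ Nat.card (Subgroup.centralizer (X : Set (PSU 4 F 3))) → r = 7 := by
    intro r hr hd
    have : Fact r.Prime := ⟨hr⟩
    obtain ⟨y, hy⟩ := exists_prime_orderOf_dvd_card' r hd
    have hyr : (y : PSU 4 F 3) ^ r = 1 := by
      rw [← Subgroup.coe_pow, ← hy, pow_orderOf_eq_one, Subgroup.coe_one]
    have hy1 : (y : PSU 4 F 3) ≠ 1 := by
      intro h
      have : y = 1 := Subtype.ext h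
      rw [this, orderOf_one] at hy
      exact hr.one_lt.ne hy
    have hxy : (y : PSU 4 F 3) * x = x * y := (Subgroup.mem_centralizer_iff.1 y.2 x x.2).symm
    have h1 : r ∣ Nat.card (PSU 4 F 3) := hd.trans (Subgroup.card_subgroup_dvd_card _)
    rw [card_psu hF, show 3265920 = 2 ^ 7 * 3 ^ 6 * 5 * 7 by norm_num] at h1
    rcases (Nat.Prime.dvd_mul hr).1 h1 with h1 | h1
    · exfalso
      rcases (Nat.Prime.dvd_mul hr).1 h1 with h1 | h1
      · rcases (Nat.Prime.dvd_mul hr).1 h1 with h1 | h1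
        · obtain rfl := (Nat.prime_dvd_prime_iff_eq hr Nat.prime_two).1 (hr.dvd_of_dvd_pow h1)
          exact hy1 (no_two hF hx7 hx1 hxy hyr)
        · obtain rfl := (Nat.prime_dvd_prime_iff_eq hr Nat.prime_three).1 (hr.dvd_of_dvd_pow h1)
          exact hy1 (no_three hF hx7 hx1 hxy hyr)
      · obtain rfl := (Nat.prime_dvd_prime_iff_eq hr Nat.prime_five).1 h1
        exact hy1 (no_five hF hx7 hx1 hxy hyr)
    · exact (Nat.prime_dvd_prime_iff_eq hr (by norm_num)).1 h1
  have hcard : Nat.card (Subgroup.centralizer (X : Set (PSU 4 F 3))) = 7 := by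
    have h1 : Nat.card (Subgroup.centralizer (X : Set (PSU 4 F 3))) =
        7 ^ (Nat.card (Subgroup.centralizer (X : Set (PSU 4 F 3)))).primeFactorsList.length :=
      Nat.eq_prime_pow_of_unique_prime_dvd Nat.card_pos.ne' fun {d} hd hd' => hno d hd hd'
    have h2 : Nat.card (Subgroup.centralizer (X : Set (PSU 4 F 3))) ∣ 3265920 := by
      rw [← card_psu hF]
      exact Subgroup.card_subgroup_dvd_card _
    have h3 : 7 ∣ Nat.card (Subgroup.centralizer (X : Set (PSU 4 F 3))) := by
      rw [← hX]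
      exact Subgroup.card_dvd_of_le hXle
    rw [h1] at h2 h3 ⊢
    generalize (Nat.card (Subgroup.centralizer (X : Set (PSU 4 F 3)))).primeFactorsList.length = k at *
    have h4 : k < 2 := by
      by_contra h
      have h5 : 7 ^ 2 ∣ 3265920 := (pow_dvd_pow 7 (by omega)).trans h2
      norm_num at h5
    have h5 : k ≠ 0 := by
      rintro rfl
      norm_num at h3
    have : k = 1 := by omega
    rw [this, pow_one]
  exact (Subgroup.eq_of_le_of_card_ge hXle (by rw [hcard, hX])).symm

/-- **The normalizer.** -/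
theorem card_normalizer (X : Subgroup (PSU 4 F 3)) (hX : Nat.card X = 7) :
    Nat.card (Subgroup.normalizer (X : Set (PSU 4 F 3))) = 21 := by
  have h7 : Fact (Nat.Prime 7) := ⟨by norm_num⟩
  have h1 := J2Type.SylowSeven.relIndex_dvd_of_card_prime X (by norm_num : Nat.Prime 7) hX
  rw [centralizer_eq hF X hX] at h1
  have h2 : X.relIndex (Subgroup.normalizer (X : Set (PSU 4 F 3))) * 7 =
      Nat.card (Subgroup.normalizer (X : Set (PSU 4 F 3))) := by
    have := Subgroup.relIndex_mul_relIndex ⊥ X (Subgroup.normalizer (X : Set (PSU 4 F 3))) bot_le Subgroup.le_normalizer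
    rw [Subgroup.relIndex_bot_left, Subgroup.relIndex_bot_left, hX, mul_comm] at this
    exact this
  have h3 : (Nat.card (PSU 4 F 3)).factorization 7 = 1 := by
    rw [card_psu hF, show 3265920 = 7 ^ 1 * 466560 by norm_num]
    rw [Nat.factorization_mul (by norm_num) (by norm_num), Nat.Prime.factorization_pow (by norm_num)]
    rw [Finsupp.add_apply, Finsupp.single_eq_same, Nat.factorization_eq_zero_of_not_dvd (by norm_num)]
  let P : Sylow 7 (PSU 4 F 3) := Sylow.ofCard X (by rw [hX, h3, pow_one])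
  have h4 := card_sylow_modEq_one 7 (PSU 4 F 3)
  have h5 : Nat.card (Sylow 7 (PSU 4 F 3)) = (Subgroup.normalizer (X : Set (PSU 4 F 3))).index :=
    P.card_eq_index_normalizer
  have h6 := (Subgroup.normalizer (X : Set (PSU 4 F 3))).card_mul_index
  rw [← h5, ← h2, card_psu hF] at h6
  rw [← h2]
  have h7 : X.relIndex (Subgroup.normalizer (X : Set (PSU 4 F 3))) ≤ 6 := Nat.le_of_dvd (by norm_num) h1
  generalize X.relIndex (Subgroup.normalizer (X : Set (PSU 4 F 3))) = m at *
  generalize Nat.card (Sylow 7 (PSU 4 F 3)) = n at *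
  have h8 : m * n = 466560 := by linarith
  have h9 : m * n % 7 = m % 7 := by
    rw [Nat.mul_mod, h4, Nat.one_mod, mul_one, Nat.mod_mod]
  rw [h8] at h9
  omega

end Grp

end Cfsg.Agent.H844.USeven
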