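import Mathlib
import Cfsg.Agent.LieClassical.OrthFinite
set_option linter.all false

/-!
# `POmega F Q` has trivial centre (helper844)
-/

set_option autoImplicit false

namespace Cfsg.Agent.H844.PCenter

open scoped commutatorElement

open Subgroup Cfsg.Agent.LieClassical Cfsg.Agent.LieClassical.OrthCore Cfsg.Agent.LieClassical.OrthTrans
  Cfsg.Agent.LieClassical.OrthFinite Cfsg.Agent.LieClassical.OrthSimple

/-- the centre of a simple quotient of a perfect group is trivial -/
theorem center_quotient {G : Type*} [Group G] {N : Subgroup G} [N.Normal] (hp : ⁅(⊤ : Subgroup G), (⊤ : Subgroup G)⁆ = ⊤)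
    (hs : IsSimpleGroup (G ⧸ N)) : center (G ⧸ N) = ⊥ := by
  rcases hs.eq_bot_or_eq_top_of_normal (center (G ⧸ N)) inferInstance with h | h
  · exact h
  · exfalso
    have h1 : ⁅(⊤ : Subgroup G), (⊤ : Subgroup G)⁆ ≤ N := by
      rw [commutator_le]
      intro a _ b _
      rw [← QuotientGroup.eq_one_iff]
      have h2 : (a : G ⧸ N) ∈ center (G ⧸ N) := by rw [h]; exact mem_top _
      have h3 := mem_center_iff.1 h2 (b : G ⧸ N)
      have h4 : ((⁅a, b⁆ : G) : G ⧸ N) = ⁅(a : G ⧸ N), (b : G ⧸ N)⁆ := rfl
      rw [h4, commutatorElement_eq_one_iff_mul_comm]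
      exact h3.symm
    rw [hp, top_le_iff] at h1
    have h2 := hs.toNontrivial
    subst h1
    obtain ⟨x, y, hxy⟩ := h2
    apply hxy
    induction x using QuotientGroup.induction_on with
    | H a =>
      induction y using QuotientGroup.induction_on with
      | H b =>
        rw [QuotientGroup.eq]
        exact mem_top _

variable {ι : Type} [Fintype ι] [DecidableEq ι] {F : Type*} [Field F]

theorem perfect_top {V : Type*} [AddCommGroup V] [Module F V] {Q : QuadraticForm F V} (hG : Good Q) :
    ⁅(⊤ : Subgroup (E Q)), (⊤ : Subgroup (E Q))⁆ = ⊤ := by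
  apply Subgroup.map_injective (E Q).subtype_injective
  rw [map_commutator, ← MonoidHom.range_eq_map, range_subtype]
  exact hG.E_perfect

/-- `POmega F Q` is isomorphic to `E Q` modulo its centre. -/
noncomputable def pomegaE {Q : QuadraticForm F (ι → F)} (hG : Good Q) :
    Cfsg.POmega F ⇑Q ≃* (E Q ⧸ center (E Q)) :=
  quotientCenterCongr ((omegaEquiv Q).trans (MulEquiv.subgroupCongr hG.commutator_eq_E))

/-- The centre of `POmega F Q` is trivial. -/
theorem center_eq_bot {Q : QuadraticForm F (ι → F)} (hG : Good Q) : center (Cfsg.POmega F ⇑Q) = ⊥ := by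
  have h := center_quotient (perfect_top hG) (good_isSimpleGroup hG)
  rw [eq_bot_iff]
  intro x hx
  have h2 : pomegaE hG x ∈ center (E Q ⧸ center (E Q)) := by
    rw [mem_center_iff]
    intro y
    obtain ⟨z, rfl⟩ := (pomegaE hG).surjective y
    rw [← map_mul, ← map_mul, mem_center_iff.1 hx z]
  rw [h, mem_bot, map_eq_one_iff _ (pomegaE hG).injective] at h2
  exact h2

end Cfsg.Agent.H844.PCenter
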